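import Groth.Agent.AcycCompLib.Criterion
import Groth.Agent.CompBCLib.Killed
import Groth.Agent.LineAcycLib.Main
import Mathlib.RingTheory.MvPolynomial.Homogeneous

/-!
# Cohomology of affine cones: contraction to the vertex
-/

set_option autoImplicit false
set_option linter.style.haveILetI false
set_option linter.unusedSectionVars false
set_option backward.isDefEq.respectTransparency false
set_option backward.isDefEq.respectTransparency.types false
set_option maxHeartbeats 1000000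

universe u

open CategoryTheory CategoryTheory.Limits AlgebraicGeometry Opposite

attribute [local instance] Groth.Agent.S0101.result

noncomputable section

namespace Groth.Agent.ConeContrLib

theorem bijective_Hpull_iso_iff {A B : Scheme.{u}} (f : B ⟶ A) {G G' : EtCoh.Ab A} (e : G ≅ G') (q : ℕ) :
    Function.Bijective (EtCore.Hpull f G q) ↔ Function.Bijective (EtCore.Hpull f G' q) := by
  have h1 := ConcreteCategory.bijective_of_isIso ((EtCoh.HF A q).map e.hom)
  have h2 := ConcreteCategory.bijective_of_isIso ((EtCoh.HF B q).map ((EtCoh.pull f).map e.hom))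
  have hc : ⇑(EtCore.Hpull f G' q) ∘ ⇑((EtCoh.HF A q).map e.hom).hom =
      ⇑((EtCoh.HF B q).map ((EtCoh.pull f).map e.hom)).hom ∘ ⇑(EtCore.Hpull f G q) :=
    funext fun x => CompBCLib.Hpull_map f e.hom x
  rw [← Function.Bijective.of_comp_iff' h2, ← Function.Bijective.of_comp_iff (EtCore.Hpull f G' q) h1]
  exact iff_of_eq (congrArg Function.Bijective hc.symm)

theorem surjective_Hpull_of_iso {A B : Scheme.{u}} (f : B ⟶ A) {G G' : EtCoh.Ab A} (e : G ≅ G') (q : ℕ)
    (h : Function.Surjective (EtCore.Hpull f G q)) : Function.Surjective (EtCore.Hpull f G' q) := by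
  have h2 := ConcreteCategory.bijective_of_isIso ((EtCoh.HF B q).map ((EtCoh.pull f).map e.hom))
  have hc : ⇑(EtCore.Hpull f G' q) ∘ ⇑((EtCoh.HF A q).map e.hom).hom =
      ⇑((EtCoh.HF B q).map ((EtCoh.pull f).map e.hom)).hom ∘ ⇑(EtCore.Hpull f G q) :=
    funext fun x => CompBCLib.Hpull_map f e.hom x
  exact (hc ▸ h2.2.comp h : Function.Surjective (⇑(EtCore.Hpull f G' q) ∘ ⇑((EtCoh.HF A q).map e.hom).hom)).of_comp

theorem Hpull_eq_zero_iff {A B C : Scheme.{u}} (g : B ⟶ A) (f : C ⟶ B) (h : C ⟶ A) (w : f ≫ g = h)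
    (F : EtCoh.Ab A) (q : ℕ) (x : EtCoh.H A F q) :
    EtCore.Hpull h F q x = 0 ↔ EtCore.Hpull f _ q (EtCore.Hpull g F q x) = 0 := by
  haveI := EtLimLib.isIso_comparePull g f h w F
  have hb := ConcreteCategory.bijective_of_isIso ((EtCoh.HF C q).map ((EtLimLib.comparePull g f h w).app F))
  have hx := congrFun (AcycCompLib.Hpull_comp g f h w F q) x
  simp only [Function.comp_apply] at hx
  rw [← hx]
  exact ⟨fun h0 => by rw [h0]; exact map_zero _, fun h0 => hb.1 (h0.trans (map_zero _).symm)⟩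

/-- If `Z` contracts to `K` along an acyclic `P`, restriction to `K` is bijective on constant sheaves. -/
theorem bijective_Hpull_of_contraction {Z P K : Scheme.{u}} (i : K ⟶ Z) (π : Z ⟶ K) (hi : i ≫ π = 𝟙 K)
    (p μ : P ⟶ Z) (s₀ s₁ : Z ⟶ P) (h₀p : s₀ ≫ p = 𝟙 Z) (h₁ : s₁ ≫ μ = 𝟙 Z) (h₀ : s₀ ≫ μ = π ≫ i)
    (r q : ℕ) (hp : Function.Bijective (EtCore.Hpull p (EtCoh.const Z (ZMod r)) q)) :
    Function.Bijective (EtCore.Hpull i (EtCoh.const Z (ZMod r)) q) := by
  have hs : Function.Bijective (EtCore.Hpull s₀ ((EtCoh.pull p).obj (EtCoh.const Z (ZMod r))) q) :=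
    (Function.Bijective.of_comp_iff _ hp).1 ((AcycCompLib.bijective_Hpull_comp_iff p s₀ (𝟙 Z) h₀p _ q).1
      (AcycCompLib.bijective_Hpull_of_isIso (𝟙 Z) _ q))
  have hs' : Function.Bijective (EtCore.Hpull s₀ ((EtCoh.pull μ).obj (EtCoh.const Z (ZMod r))) q) :=
    (bijective_Hpull_iso_iff s₀ (EtCore.pullConst p (ZMod r) ≪≫ (EtCore.pullConst μ (ZMod r)).symm) q).1 hs
  refine ⟨(injective_iff_map_eq_zero _).2 fun x hx => ?_, ?_⟩
  · have h2 : EtCore.Hpull (π ≫ i) (EtCoh.const Z (ZMod r)) q x = 0 := by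
      rw [Hpull_eq_zero_iff i π _ rfl, hx, map_zero]
    rw [Hpull_eq_zero_iff μ s₀ _ h₀] at h2
    have h3 : EtCore.Hpull μ (EtCoh.const Z (ZMod r)) q x = 0 := hs'.1 (h2.trans (map_zero _).symm)
    have h4 : EtCore.Hpull (𝟙 Z) (EtCoh.const Z (ZMod r)) q x = 0 := by
      rw [Hpull_eq_zero_iff μ s₁ _ h₁, h3, map_zero]
    exact (AcycCompLib.bijective_Hpull_of_isIso (𝟙 Z) _ q).1 (h4.trans (map_zero _).symm)
  · exact surjective_Hpull_of_iso i (EtCore.pullConst π (ZMod r)) q
      ((AcycCompLib.bijective_Hpull_comp_iff π i (𝟙 K) hi (EtCoh.const K (ZMod r)) q).1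
        (AcycCompLib.bijective_Hpull_of_isIso (𝟙 K) _ q)).2.of_comp

/-- Cohomology of constant sheaves on a line. -/
theorem bijective_Hpull_line {X Y : Scheme.{u}} {g : X ⟶ Y} (hg : SmoothBCLib.IsLine g) {r : ℕ}
    (hY : SmoothBCLib.InvOn r Y) (F : EtCoh.Ab Y) (hF : EtCoh.KilledBy r F) (q : ℕ) :
    Function.Bijective (EtCore.Hpull g F q) := by
  haveI := LineAcycLib.isAffineHom_line hg
  haveI := LineAcycLib.isIso_unit_line hg F
  have e : ⇑(EtCore.Hpull g F q) = ⇑(EtLim.HofPush g ((EtCoh.pull g).obj F) q) ∘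
      ⇑(Sheaf.H.map ((EtCoh.pullPushAdj g).unit.app F) q) :=
    funext fun x => AcycCompLib.Hpull_eq_HofPush_unit g q F x
  rw [e]
  exact ((AcycCompLib.bijective_HofPush g _ q q fun p hp _ => by
    obtain ⟨p, rfl⟩ : ∃ p', p = p' + 1 := ⟨p - 1, by omega⟩
    exact LineAcycLib.isZero_Rpush_line hg hY F hF p).1 le_rfl).comp
      (ConcreteCategory.bijective_of_isIso ((EtCoh.HF Y q).map ((EtCoh.pullPushAdj g).unit.app F)))

/-- Contraction data on rings. -/
theorem bijective_Hpull_ringData {k B : Type u} [CommRing k] [CommRing B] (φ : B →+* k) (η : k →+* B)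
    (μ : B →+* Polynomial B) (hφη : φ.comp η = RingHom.id k) (e₁ : (Polynomial.evalRingHom 1).comp μ = RingHom.id B)
    (e₀ : (Polynomial.evalRingHom 0).comp μ = η.comp φ) {r : ℕ} (hr : IsUnit (r : B)) (q : ℕ) :
    Function.Bijective (EtCore.Hpull (Spec.map (CommRingCat.ofHom φ))
      (EtCoh.const (Spec (CommRingCat.of B)) (ZMod r)) q) := by
  refine bijective_Hpull_of_contraction (Spec.map (CommRingCat.ofHom φ)) (Spec.map (CommRingCat.ofHom η)) ?_
    (Spec.map (CommRingCat.ofHom (Polynomial.C : B →+* Polynomial B))) (Spec.map (CommRingCat.ofHom μ))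
    (Spec.map (CommRingCat.ofHom (Polynomial.evalRingHom (0 : B))))
    (Spec.map (CommRingCat.ofHom (Polynomial.evalRingHom (1 : B)))) ?_ ?_ ?_ r q ?_
  · rw [← Spec.map_comp, ← CommRingCat.ofHom_comp, hφη]
    exact Spec.map_id _
  · rw [← Spec.map_comp, ← CommRingCat.ofHom_comp, show (Polynomial.evalRingHom (0 : B)).comp Polynomial.C =
      RingHom.id B from RingHom.ext fun b => Polynomial.eval_C]
    exact Spec.map_id _
  · rw [← Spec.map_comp, ← CommRingCat.ofHom_comp, e₁]
    exact Spec.map_id _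
  · rw [← Spec.map_comp, ← Spec.map_comp, ← CommRingCat.ofHom_comp, ← CommRingCat.ofHom_comp, e₀]
  refine bijective_Hpull_line (SmoothBCLib.isLine_spec_C B) ?_ _ (PBCLib.killedBy_const _ r) q
  have := hr.map (Scheme.ΓSpecIso (CommRingCat.of B)).inv.hom
  rwa [map_natCast] at this

open MvPolynomial in
theorem eval₂_scale {k B : Type u} [CommRing k] [CommRing B] {σ : Type} (g : k →+* B) (x : σ → B)
    {f : MvPolynomial σ k} {d : ℕ} (hf : f.IsHomogeneous d) :
    eval₂Hom (Polynomial.C.comp g) (fun j => Polynomial.C (x j) * Polynomial.X) f =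
      Polynomial.C (eval₂Hom g x f) * Polynomial.X ^ d := by
  classical
  conv_lhs => rw [f.as_sum]
  conv_rhs => rw [f.as_sum]
  rw [map_sum, map_sum, map_sum, Finset.sum_mul]
  refine Finset.sum_congr rfl fun m hm => ?_
  rw [coe_eval₂Hom, coe_eval₂Hom, eval₂_monomial, eval₂_monomial, map_mul, Finsupp.prod, Finsupp.prod, map_prod,
    mul_assoc, RingHom.comp_apply]
  congr 1
  have hd : ∑ j ∈ m.support, m j = d := by
    have := hf (mem_support_iff.1 hm)
    rw [← this]
    simp [Finsupp.weight_apply, Finsupp.sum]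
  rw [← hd, ← Finset.prod_pow_eq_pow_sum, ← Finset.prod_mul_distrib]
  exact Finset.prod_congr rfl fun j _ => by rw [mul_pow, map_pow]

/-- The vertex of an affine cone carries the cohomology of the cone. -/
theorem bijective_Hpull_vertex (k : Type u) [Field k] (n d : ℕ)
    (f : MvPolynomial (Fin (n + 1)) k) (hf : f.IsHomogeneous d) (r : ℕ) (hr : (r : k) ≠ 0)
    (i₀ : Spec (CommRingCat.of k) ⟶ Spec (CommRingCat.of (MvPolynomial (Fin (n + 1)) k ⧸ Ideal.span {f})))
    (hi₀ : i₀ ≫ Spec.map (CommRingCat.ofHom (Ideal.Quotient.mk (Ideal.span {f}))) =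
      Spec.map (CommRingCat.ofHom (MvPolynomial.eval (fun _ : Fin (n + 1) => (0 : k))))) (q : ℕ) :
    Function.Bijective (EtCore.Hpull i₀
      (EtCoh.const (Spec (CommRingCat.of (MvPolynomial (Fin (n + 1)) k ⧸ Ideal.span {f}))) (ZMod r)) q) := by
  let R := MvPolynomial (Fin (n + 1)) k
  let B := R ⧸ Ideal.span {f}
  let mk : R →+* B := Ideal.Quotient.mk _
  let φ : B →+* k := (Spec.preimage i₀).hom
  have hφ : i₀ = Spec.map (CommRingCat.ofHom φ) := (Spec.map_preimage i₀).symm
  have hev : φ.comp mk = MvPolynomial.eval (fun _ : Fin (n + 1) => (0 : k)) := by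
    have := hi₀
    rw [hφ, ← Spec.map_comp] at this
    exact congrArg CommRingCat.Hom.hom (Spec.map_injective this)
  let η : k →+* B := mk.comp MvPolynomial.C
  have hφη : φ.comp η = RingHom.id k := RingHom.ext fun c => by
    show φ.comp mk (MvPolynomial.C c) = c
    rw [hev, MvPolynomial.eval_C]
  let μ₀ : R →+* Polynomial B :=
    MvPolynomial.eval₂Hom (Polynomial.C.comp η) (fun j => Polynomial.C (mk (MvPolynomial.X j)) * Polynomial.X)
  have hη : MvPolynomial.eval₂Hom η (fun j => mk (MvPolynomial.X j)) = mk :=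
    MvPolynomial.ringHom_ext (fun c => MvPolynomial.eval₂Hom_C _ _ _) fun j => MvPolynomial.eval₂Hom_X' _ _ _
  have hf0 : ∀ a ∈ Ideal.span {f}, μ₀ a = 0 := fun a ha => by
    obtain ⟨c, rfl⟩ := Ideal.mem_span_singleton.1 ha
    rw [map_mul, show μ₀ f = 0 by
      show MvPolynomial.eval₂Hom _ _ f = 0
      rw [eval₂_scale η _ hf, hη, show mk f = 0 from Ideal.Quotient.eq_zero_iff_mem.2 (Ideal.mem_span_singleton_self f),
        map_zero, zero_mul], zero_mul]
  let μ : B →+* Polynomial B := Ideal.Quotient.lift _ μ₀ hf0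
  have hC : ∀ c, μ₀ (MvPolynomial.C c) = Polynomial.C (η c) := fun c => MvPolynomial.eval₂Hom_C _ _ _
  have hX : ∀ j, μ₀ (MvPolynomial.X j) = Polynomial.C (mk (MvPolynomial.X j)) * Polynomial.X :=
    fun j => MvPolynomial.eval₂Hom_X' _ _ _
  have e₁ : (Polynomial.evalRingHom 1).comp μ = RingHom.id B := by
    refine Ideal.Quotient.ringHom_ext (MvPolynomial.ringHom_ext (fun c => ?_) fun j => ?_)
    · show Polynomial.eval 1 (μ₀ (MvPolynomial.C c)) = mk (MvPolynomial.C c)
      rw [hC, Polynomial.eval_C]; rfl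
    · show Polynomial.eval 1 (μ₀ (MvPolynomial.X j)) = mk (MvPolynomial.X j)
      rw [hX, Polynomial.eval_mul, Polynomial.eval_C, Polynomial.eval_X, mul_one]
  have e₀ : (Polynomial.evalRingHom 0).comp μ = η.comp φ := by
    refine Ideal.Quotient.ringHom_ext (MvPolynomial.ringHom_ext (fun c => ?_) fun j => ?_)
    · show Polynomial.eval 0 (μ₀ (MvPolynomial.C c)) = η (φ.comp mk (MvPolynomial.C c))
      rw [hev, MvPolynomial.eval_C, hC, Polynomial.eval_C]
    · show Polynomial.eval 0 (μ₀ (MvPolynomial.X j)) = η (φ.comp mk (MvPolynomial.X j))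
      rw [hev, MvPolynomial.eval_X, hX, Polynomial.eval_mul, Polynomial.eval_X, mul_zero, map_zero]
  rw [hφ]
  exact bijective_Hpull_ringData φ η μ hφη e₁ e₀ (by
    have := (IsUnit.mk0 _ hr).map η
    rwa [map_natCast] at this) q

end Groth.Agent.ConeContrLib
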